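import Mathlib

/-!
Coxeter relations of type A: a family of elements satisfying the relations of the adjacent
transpositions receives a homomorphism from the symmetric group.
-/

set_option autoImplicit false

namespace Cfsg.Agent.SymCoxeter

open Equiv

variable {G : Type*} [Group G]

/-- The type A Coxeter relations for `s 0, ..., s (n-1)`. -/
structure Rels (s : ℕ → G) (n : ℕ) : Prop where
  sq : ∀ i < n, s i * s i = 1
  braid : ∀ i, i + 1 < n → s i * s (i + 1) * s i = s (i + 1) * s i * s (i + 1)
  comm : ∀ i j, i + 1 < j → j < n → s i * s j = s j * s i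

theorem Rels.mono {s : ℕ → G} {n m : ℕ} (h : Rels s n) (hm : m ≤ n) : Rels s m :=
  ⟨fun i hi => h.sq i (by omega), fun i hi => h.braid i (by omega),
    fun i j hij hj => h.comm i j hij (by omega)⟩

/-- The word `s k * s (k+1) * ... * s (k+l-1)`. -/
def word (s : ℕ → G) : ℕ → ℕ → G
  | _, 0 => 1
  | k, l + 1 => s k * word s (k + 1) l

theorem word_comm {s : ℕ → G} {n : ℕ} (h : Rels s n) (i : ℕ) :
    ∀ l k : ℕ, i + 1 < k → k + l ≤ n → s i * word s k l = word s k l * s i := by
  intro l
  induction l with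
  | zero => intro k _ _; simp [word]
  | succ l ih =>
    intro k hk hkl
    simp only [word]
    rw [← mul_assoc, h.comm i k hk (by omega), mul_assoc, ih (k + 1) (by omega) (by omega),
      mul_assoc]

theorem word_shift {s : ℕ → G} {n : ℕ} (h : Rels s n) :
    ∀ d k l : ℕ, d + 2 ≤ l → k + l ≤ n →
      s (k + d + 1) * word s k l = word s k l * s (k + d) := by
  intro d
  induction d with
  | zero =>
    intro k l hl hkl
    obtain ⟨l, rfl⟩ : ∃ m, l = m + 2 := ⟨l - 2, by omega⟩
    simp only [word, Nat.add_zero]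
    have hc := word_comm h k l (k + 1 + 1) (by omega) (by omega)
    calc s (k + 1) * (s k * (s (k + 1) * word s (k + 1 + 1) l))
        = (s (k + 1) * s k * s (k + 1)) * word s (k + 1 + 1) l := by group
      _ = (s k * s (k + 1) * s k) * word s (k + 1 + 1) l := by rw [h.braid k (by omega)]
      _ = s k * s (k + 1) * (s k * word s (k + 1 + 1) l) := by group
      _ = s k * s (k + 1) * (word s (k + 1 + 1) l * s k) := by rw [hc]
      _ = _ := by group
  | succ d ih =>
    intro k l hl hkl
    obtain ⟨l, rfl⟩ : ∃ m, l = m + 1 := ⟨l - 1, by omega⟩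
    simp only [word]
    have e := ih (k + 1) l (by omega) (by omega)
    have e1 : k + 1 + d + 1 = k + (d + 1) + 1 := by omega
    have e2 : k + 1 + d = k + (d + 1) := by omega
    rw [e1, e2] at e
    rw [← mul_assoc, ← h.comm k (k + (d + 1) + 1) (by omega) (by omega), mul_assoc, e, mul_assoc]

/-- The subgroup generated by `s 0, ..., s (n-1)`. -/
def gen (s : ℕ → G) (n : ℕ) : Subgroup G := Subgroup.closure (s '' {i | i < n})

theorem mem_gen {s : ℕ → G} {n i : ℕ} (hi : i < n) : s i ∈ gen s n :=
  Subgroup.subset_closure ⟨i, hi, rfl⟩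

theorem step {s : ℕ → G} {n : ℕ} (h : Rels s (n + 1)) (i l : ℕ) (hi : i < n + 1)
    (hl : l ≤ n + 1) :
    ∃ l' ≤ n + 1, ∃ h' ∈ gen s n,
      s i * word s (n + 1 - l) l = word s (n + 1 - l') l' * h' := by
  obtain ⟨k, hk⟩ : ∃ k, k + l = n + 1 := ⟨n + 1 - l, by omega⟩
  have hk' : n + 1 - l = k := by omega
  rw [hk']
  rcases lt_trichotomy i k with hik | rfl | hik
  · rcases Nat.lt_or_ge (i + 1) k with h1 | h1
    · exact ⟨l, hl, s i, mem_gen (by omega), by rw [hk', word_comm h i l k h1 (by omega)]⟩
    · refine ⟨l + 1, by omega, 1, one_mem _, ?_⟩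
      rw [mul_one, show n + 1 - (l + 1) = i by omega]
      simp only [word]
      rw [show i + 1 = k by omega]
  · obtain ⟨l, rfl⟩ : ∃ m, l = m + 1 := ⟨l - 1, by omega⟩
    refine ⟨l, by omega, 1, one_mem _, ?_⟩
    rw [mul_one, show n + 1 - l = i + 1 by omega]
    simp only [word]
    rw [← mul_assoc, h.sq i (by omega), one_mul]
  · obtain ⟨d, rfl⟩ : ∃ d, i = k + d + 1 := ⟨i - k - 1, by omega⟩
    exact ⟨l, hl, s (k + d), mem_gen (by omega),
      by rw [hk', word_shift h d k l (by omega) (by omega)]⟩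

theorem exists_cover (s : ℕ → G) : ∀ n : ℕ, Rels s n →
    ∃ T : Finset G, T.card ≤ (n + 1).factorial ∧ ∀ g ∈ gen s n, g ∈ T := by
  classical
  intro n
  induction n with
  | zero =>
    intro _
    refine ⟨{1}, by simp, fun g hg => ?_⟩
    simpa [gen] using hg
  | succ n ih =>
    intro h
    obtain ⟨T, hT, hTs⟩ := ih (h.mono (by omega))
    refine ⟨(Finset.range (n + 2)).biUnion
      (fun l => T.image (fun x => word s (n + 1 - l) l * x)), ?_, ?_⟩
    · refine le_trans Finset.card_biUnion_le ?_
      refine le_trans (Finset.sum_le_card_nsmul _ _ T.card fun l _ => Finset.card_image_le) ?_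
      rw [Finset.card_range, smul_eq_mul, Nat.factorial_succ]
      exact Nat.mul_le_mul_left _ hT
    · intro g hg
      have key : ∃ l ≤ n + 1, ∃ h' ∈ gen s n, g = word s (n + 1 - l) l * h' := by
        unfold gen at hg
        induction hg using Subgroup.closure_induction_left with
        | one => exact ⟨0, by omega, 1, one_mem _, by simp [word]⟩
        | mul_left x hx y _ hy =>
          obtain ⟨i, hi, rfl⟩ := hx
          obtain ⟨l, hl, h', hh', rfl⟩ := hy
          obtain ⟨l', hl', h'', hh'', e⟩ := step h i l hi hl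
          exact ⟨l', hl', h'' * h', mul_mem hh'' hh', by rw [← mul_assoc, e, mul_assoc]⟩
        | inv_mul_cancel x hx y _ hy =>
          obtain ⟨i, hi, rfl⟩ := hx
          obtain ⟨l, hl, h', hh', rfl⟩ := hy
          obtain ⟨l', hl', h'', hh'', e⟩ := step h i l hi hl
          rw [inv_eq_of_mul_eq_one_left (h.sq i hi)]
          exact ⟨l', hl', h'' * h', mul_mem hh'' hh', by rw [← mul_assoc, e, mul_assoc]⟩
      obtain ⟨l, hl, h', hh', rfl⟩ := key
      rw [Finset.mem_biUnion]
      exact ⟨l, Finset.mem_range.2 (by omega), Finset.mem_image.2 ⟨h', hTs h' hh', rfl⟩⟩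

/-- The adjacent transpositions of `Fin (n+1)`, indexed by natural numbers. -/
def adj (n i : ℕ) : Perm (Fin (n + 1)) :=
  if h : i < n then swap (⟨i, by omega⟩ : Fin (n + 1)) ⟨i + 1, by omega⟩ else 1

theorem adj_rels (n : ℕ) : Rels (adj n) n := by
  refine ⟨fun i hi => ?_, fun i hi => ?_, fun i j hij hj => ?_⟩
  · simp [adj, hi]
  · simp only [adj, show i < n by omega, hi, dif_pos]
    refine Equiv.ext fun x => Fin.ext ?_
    simp only [Perm.coe_mul, Function.comp_apply, swap_apply_def, Fin.ext_iff,
      apply_ite Fin.val]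
    grind
  · simp only [adj, show i < n by omega, hj, dif_pos]
    refine Equiv.ext fun x => Fin.ext ?_
    simp only [Perm.coe_mul, Function.comp_apply, swap_apply_def, Fin.ext_iff,
      apply_ite Fin.val]
    grind

theorem closure_adj (n : ℕ) : gen (adj n) n = ⊤ := by
  refine top_unique ?_
  have h : Subgroup.closure (Set.range fun i : Fin n => swap i.castSucc i.succ) = ⊤ :=
    Subgroup.closure_eq_top_of_mclosure_eq_top (Perm.mclosure_swap_castSucc_succ n)
  rw [← h, Subgroup.closure_le]
  rintro _ ⟨i, rfl⟩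
  show swap i.castSucc i.succ ∈ gen (adj n) n
  have : swap i.castSucc i.succ = adj n i := by
    unfold adj
    rw [dif_pos i.isLt]
    rfl
  rw [this]
  exact mem_gen i.isLt

/-- Universal property of the Coxeter presentation of the symmetric group. -/
theorem exists_hom (n : ℕ) (s : ℕ → G) (h : Rels s n) :
    ∃ φ : Perm (Fin (n + 1)) →* G,
      (∀ i < n, φ (adj n i) = s i) ∧ φ.range = gen s n := by
  classical
  have hp := adj_rels n
  set t : ℕ → Perm (Fin (n + 1)) × G := fun i => (adj n i, s i) with ht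
  have htr : Rels t n := by
    refine ⟨fun i hi => ?_, fun i hi => ?_, fun i j hij hj => ?_⟩
    · exact Prod.ext (hp.sq i hi) (h.sq i hi)
    · exact Prod.ext (hp.braid i hi) (h.braid i hi)
    · exact Prod.ext (hp.comm i j hij hj) (h.comm i j hij hj)
  obtain ⟨T, hT, hTs⟩ := exists_cover t n htr
  set π : gen t n →* Perm (Fin (n + 1)) :=
    (MonoidHom.fst (Perm (Fin (n + 1))) G).comp (gen t n).subtype with hπ
  have himg : (gen t n).map (MonoidHom.fst (Perm (Fin (n + 1))) G) = ⊤ := by
    rw [← closure_adj n, gen, MonoidHom.map_closure, gen, Set.image_image]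
    rfl
  have hsurj : Function.Surjective π := by
    intro σ
    have : σ ∈ (gen t n).map (MonoidHom.fst (Perm (Fin (n + 1))) G) := himg ▸ Subgroup.mem_top σ
    obtain ⟨x, hx, rfl⟩ := this
    exact ⟨⟨x, hx⟩, rfl⟩
  have hfin : (gen t n : Set (Perm (Fin (n + 1)) × G)).Finite :=
    Set.Finite.subset T.finite_toSet hTs
  haveI : Finite (gen t n) := hfin.to_subtype
  have hcard : Nat.card (gen t n) ≤ Nat.card (Perm (Fin (n + 1))) := by
    rw [Nat.card_perm, Nat.card_fin]
    refine le_trans ?_ hT
    calc Nat.card (gen t n) ≤ Nat.card (T : Set (Perm (Fin (n + 1)) × G)) :=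
          Nat.card_mono T.finite_toSet hTs
      _ = T.card := by simp
  have hbij : Function.Bijective π :=
    (Function.Surjective.bijective_of_nat_card_le hsurj hcard)
  let e : gen t n ≃* Perm (Fin (n + 1)) := MulEquiv.ofBijective π hbij
  let φ : Perm (Fin (n + 1)) →* G :=
    ((MonoidHom.snd (Perm (Fin (n + 1))) G).comp (gen t n).subtype).comp e.symm.toMonoidHom
  refine ⟨φ, ?_, ?_⟩
  · intro i hi
    have : e.symm (adj n i) = ⟨t i, mem_gen hi⟩ := by
      rw [MulEquiv.symm_apply_eq]; rfl
    show ((e.symm (adj n i) : gen t n) : Perm (Fin (n + 1)) × G).2 = s i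
    rw [this]
  · have h2 : (gen t n).map (MonoidHom.snd (Perm (Fin (n + 1))) G) = gen s n := by
      rw [gen, MonoidHom.map_closure, gen, Set.image_image]
      rfl
    rw [← h2]
    ext g
    constructor
    · rintro ⟨σ, rfl⟩
      exact ⟨_, (e.symm σ).2, rfl⟩
    · rintro ⟨x, hx, rfl⟩
      refine ⟨e ⟨x, hx⟩, ?_⟩
      show ((e.symm (e ⟨x, hx⟩) : gen t n) : Perm (Fin (n + 1)) × G).2 = x.2
      rw [MulEquiv.symm_apply_apply]

end Cfsg.Agent.SymCoxeter
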